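import Cfsg.Agent.DMult.KerMain

/-!
`Ω` of plus type from `SL n` and one involution.
-/

set_option autoImplicit false

namespace CfsgLib.OmShort

open Matrix Subgroup QuadraticMap
open CfsgLib.An
open CfsgLib.En (SL2 SL3 iU iL sl2_gen)
open CfsgLib.QP (up low up_coe low_coe up_mul)
open CfsgLib.Quad (plusQ oGroup)
open CfsgLib.DMult (maps_emb maps_emb_out)

universe u w

variable {F : Type u} [Field F] {q : ℕ}

/-- The coordinates other than the first and the last. -/
def midF (q : ℕ) (i : Fin (q + 2)) : Fin (q + 4) := ⟨i.val + 1, by omega⟩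

theorem midF_injective : Function.Injective (midF q) := fun i j h => by
  simp [midF, Fin.ext_iff] at h; exact Fin.ext h

theorem midF_ne (i : Fin (q + 2)) : midF q i ≠ f0 q ∧ midF q i ≠ fl q := by
  constructor <;> intro h <;> have h' := congrArg Fin.val h <;> simp [midF, f0, fl] at h'
  omega

theorem exists_midF {a : Fin (q + 4)} (h : a ≠ f0 q) (h' : a ≠ fl q) : ∃ i, midF q i = a := by
  have h1 : a.val ≠ 0 := fun e => h (Fin.ext e)
  have h2 : a.val ≠ q + 3 := fun e => h' (Fin.ext e)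
  exact ⟨⟨a.val - 1, by omega⟩, Fin.ext (by simp [midF]; omega)⟩

variable (F) in
/-- The top copy of `SL₂`. -/
noncomputable abbrev topT (q : ℕ) : SL2 F →* SLn (q + 4) F := emb2 (fm_ne_fl (q := q))

/-- The node at the fork. -/
noncomputable def nodeB {G : Type w} [Group G] (φ : SLn (q + 4) F →* G) (r : G) : SL2 F →* G :=
  (MulAut.conj r).toMonoidHom.comp (φ.comp (topT F q))

theorem nodeB_apply {G : Type w} [Group G] (φ : SLn (q + 4) F →* G) (r : G) (A : SL2 F) :
    nodeB φ r A = r * φ (topT F q A) * r⁻¹ := rfl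

variable (F) in
/-- What is needed of the relations. -/
structure Data (G : Type w) [Group G] (q : ℕ) where
  /-- the map of `SL n` -/
  φ : SLn (q + 4) F →* G
  /-- the involution -/
  r : G
  hmid : ∀ A, Commute (φ (emb (midF q) midF_injective A)) r
  r_sq : r * r = 1
  farLow : ∀ a c : Fin (q + 4), a ≠ c → a.val < q + 2 → c.val < q + 2 → ∀ t A,
    Commute (φ (xt a c t)) (nodeB φ r A)
  farTop : ∀ A B, Commute (φ (topT F q A)) (nodeB φ r B)
  X : φ (wEl (f0 q) (fm q)) * (φ (topT F q (wv 1)) * nodeB φ r (wv (-1))) *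
    (φ (wEl (f0 q) (fm q)))⁻¹ = r

/-- The product of two data. -/
noncomputable def Data.prod {G H : Type*} [Group G] [Group H] (D : Data F G q) (D' : Data F H q) :
    Data F (G × H) q where
  φ := D.φ.prod D'.φ
  r := (D.r, D'.r)
  hmid A := Prod.ext (D.hmid A).eq (D'.hmid A).eq
  r_sq := Prod.ext D.r_sq D'.r_sq
  farLow a c h h1 h2 t A := Prod.ext (D.farLow a c h h1 h2 t A).eq (D'.farLow a c h h1 h2 t A).eq
  farTop A B := Prod.ext (D.farTop A B).eq (D'.farTop A B).eq
  X := Prod.ext D.X D'.X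

theorem wv_neg_one : (wv (-1) : SL2 F) = (wv 1)⁻¹ := by
  refine eq_inv_of_mul_eq_one_right ?_
  show hd (1 : F) = 1
  exact Subtype.ext (by rw [hd_coe one_ne_zero, inv_one, ← Matrix.one_fin_two]; rfl)

theorem hd_neg_one_inv : ((hd (-1) : SL2 F))⁻¹ = hd (-1) := by
  refine inv_eq_of_mul_eq_one_right (Subtype.ext ?_)
  rw [Matrix.SpecialLinearGroup.coe_mul, hd_coe (neg_ne_zero.2 one_ne_zero)]
  ext i j
  fin_cases i <;> fin_cases j <;> simp [Matrix.mul_apply, Fin.sum_univ_two]

namespace Data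

variable [Finite F] {G : Type w} [Group G] (D : Data F G q)

theorem comm_r {a c : Fin (q + 4)} (hac : a ≠ c) (ha : a ≠ f0 q ∧ a ≠ fl q) (hc : c ≠ f0 q ∧ c ≠ fl q)
    (t : F) : Commute (D.φ (xt a c t)) D.r := by
  obtain ⟨i, rfl⟩ := exists_midF ha.1 ha.2
  obtain ⟨j, rfl⟩ := exists_midF hc.1 hc.2
  have := D.hmid (xt i j t)
  rwa [emb_xt _ _ fun e => hac (congrArg (midF q) e)] at this

/-- The fork. -/
noncomputable def fork : Fork F G q where
  φ := D.φ
  b := nodeB D.φ D.r
  ψ := (MulAut.conj D.r).toMonoidHom.comp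
    (D.φ.comp (emb ![fp q, fm q, fl q] (three_inj fp_ne_fm fp_ne_fl fm_ne_fl)))
  pup t := by
    rw [MonoidHom.comp_apply, MonoidHom.comp_apply, emb3_iU fp_ne_fm fp_ne_fl fm_ne_fl, emb2_up, MulEquiv.coe_toMonoidHom,
      MulAut.conj_apply, ← (D.comm_r fp_ne_fm ⟨f0_ne_fp.symm, fp_ne_fl⟩
        ⟨(ne_of_low f0_low).1.symm, fm_ne_fl⟩ t).eq, mul_inv_cancel_right]
  plow t := by
    rw [MonoidHom.comp_apply, MonoidHom.comp_apply, emb3_iU fp_ne_fm fp_ne_fl fm_ne_fl, emb2_low, MulEquiv.coe_toMonoidHom,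
      MulAut.conj_apply, ← (D.comm_r fp_ne_fm.symm ⟨(ne_of_low f0_low).1.symm, fm_ne_fl⟩
        ⟨f0_ne_fp.symm, fp_ne_fl⟩ t).eq, mul_inv_cancel_right]
  ψL A := by
    rw [MonoidHom.comp_apply, MonoidHom.comp_apply, emb3_iL fp_ne_fm fp_ne_fl fm_ne_fl]; rfl
  far j k hadj h u A := by
    have hne : j ≠ k := fun e => by subst e; omega
    rcases h with ⟨hj, hk⟩ | ⟨hj, hk⟩
    · exact D.farLow j k hne hj hk u A
    · have h1 := j.isLt
      have h2 := k.isLt
      have hjk : (j = fm q ∧ k = fl q) ∨ (j = fl q ∧ k = fm q) := by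
        simp only [fm, fl, Fin.ext_iff]; omega
      rcases hjk with ⟨rfl, rfl⟩ | ⟨rfl, rfl⟩
      · have := D.farTop (up u) A
        rwa [emb2_up] at this
      · have := D.farTop (low u) A
        rwa [emb2_low] at this

theorem corner_eq : nodeB D.φ D.r (hd (-1)) * D.φ (topT F q (hd (-1))) = 1 := by
  set P := D.φ (wEl (f0 q) (fm q))
  set a := D.φ (topT F q (wv 1))
  set b := nodeB D.φ D.r (wv (-1))
  have hab : Commute a b := D.farTop _ _
  have h : P * (a * b * (a * b)) * P⁻¹ = 1 := by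
    rw [show P * (a * b * (a * b)) * P⁻¹ = (P * (a * b) * P⁻¹) * (P * (a * b) * P⁻¹) by group, D.X, D.r_sq]
  rw [mul_inv_eq_one, mul_eq_left] at h
  rw [show a * b * (a * b) = (a * a) * (b * b) by
      rw [mul_assoc a b, ← mul_assoc b a, ← hab.eq]; group,
    ← map_mul, ← map_mul, ← map_mul, wv_sq, wv_neg_one, ← _root_.mul_inv_rev, wv_sq, hd_neg_one_inv] at h
  rw [← (D.farTop _ _).eq]
  exact h

end Data

section orth

variable [Finite F]

/-- The involution in the orthogonal group. -/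
noncomputable def invR (q : ℕ) : oGroup (plusQ (F := F) (q + 4)) := rr (f0 q) * rr (fl q)

omit [Finite F] in
theorem rr_comm {n : ℕ} {l m : Fin n} (h : l ≠ m) : Commute (rr (F := F) l) (rr m) := by
  refine Subtype.ext (LinearEquiv.ext fun v => funext fun k => ?_)
  show (rr (F := F) l).1 ((rr (F := F) m).1 v) k = (rr (F := F) m).1 ((rr (F := F) l).1 v) k
  simp only [rr_apply]
  congr 1
  rcases k with k | k <;> rcases eq_or_ne k l with rfl | hl <;>
    (try rcases eq_or_ne k m with rfl | hm) <;>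
    simp [Equiv.swap_apply_of_ne_of_ne, Equiv.swap_apply_left, Equiv.swap_apply_right, h, h.symm, *]

omit [Finite F] in
theorem commute_rr_lv {n : ℕ} (hn : 2 ≤ n) {l : Fin n} {m : ℕ} (hm : 2 ≤ m) (g : Fin m → Fin n)
    (hg : Function.Injective g) (hl : ∀ i, g i ≠ l) (A : SLn m F) :
    Commute (rr l) (lv (emb g hg A)) := by
  have : Nontrivial (Fin m) := Fin.nontrivial_iff_two_le.2 hm
  induction A using CfsgLib.Linear.transvection_induction with
  | htransvec i j hij c =>
    rw [← xt_eq hij, emb_xt _ _ hij]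
    have h := cjr_xt_fix (F := F) (hg.ne hij) (hl i) (hl j) c
    rw [cjr_eq, ← rr_inv, mul_inv_eq_iff_eq_mul, rr_inv] at h
    exact h
  | hmul A B hA hB => rw [map_mul, map_mul]; exact hA.mul_right hB

omit [Finite F] in
theorem invR_sq : invR (F := F) q * invR q = 1 := by
  rw [invR, show rr (f0 q) * rr (fl q) * (rr (f0 q) * rr (fl q)) =
    rr (f0 q) * (rr (fl q) * rr (f0 q)) * rr (fl q) by group,
    (rr_comm (ne_of_low f0_low).2.symm).eq, ← mul_assoc, rr_mul_self, one_mul, rr_mul_self]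

theorem conj_invR_top (A : SL2 F) :
    invR q * lv (topT F q A) * (invR q)⁻¹ = cjr (fl q) (topT F q A) := by
  have h : Commute (rr (f0 q)) (lv (topT F q A)) := commute_rr_lv (by omega) le_rfl _ _
    (fun i => by fin_cases i; exacts [(ne_of_low f0_low).1.symm, (ne_of_low f0_low).2.symm]) A
  rw [invR, (rr_comm (ne_of_low f0_low).2).eq, mul_assoc (rr (fl q)) (rr (f0 q)), h.eq, _root_.mul_inv_rev,
    rr_inv, rr_inv, cjr_eq]
  rw [show rr (fl q) * (lv (topT F q A) * rr (f0 q)) * (rr (f0 q) * rr (fl q)) =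
    rr (fl q) * lv (topT F q A) * (rr (f0 q) * rr (f0 q)) * rr (fl q) by group, rr_mul_self, mul_one]

omit [Finite F] in
theorem wEl_rr {n : ℕ} {a b : Fin n} (h : a ≠ b) :
    lv (wEl a b : SLn n F) * rr b = rr a * lv (wEl a b) := by
  obtain ⟨w1, w2, w3⟩ := maps_wEl (F := F) h
  have hm : ∀ (x y : oGroup (plusQ (F := F) n)) v, (x * y).1 v = x.1 (y.1 v) := fun _ _ _ => rfl
  refine Subtype.ext (LinearEquiv.toLinearMap_injective (LinearMap.pi_ext fun k t => ?_))
  show (lv (wEl a b : SLn n F) * rr b).1 _ = (rr a * lv (wEl a b : SLn n F)).1 _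
  rw [hm, hm]
  rcases k with k | k <;> rcases eq_or_ne k a with rfl | hka <;>
    (try rcases eq_or_ne k b with rfl | hkb) <;>
    simp only [rr_single, Equiv.swap_apply_left, Equiv.swap_apply_right, ne_eq, reduceCtorEq,
      not_false_eq_true, Equiv.swap_apply_of_ne_of_ne, Sum.inl.injEq, Sum.inr.injEq, h, h.symm,
      w1.lv_inl, w1.lv_inr, w2.lv_inl, w2.lv_inr, inv_neg, inv_one, *] <;>
    simp [(w3 k hka hkb).lv_inl, (w3 k hka hkb).lv_inr, rr_single, Equiv.swap_apply_of_ne_of_ne, hka, hkb]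

theorem orth_X : lv (wEl (f0 q) (fm q)) *
    (lv (topT F q (wv 1)) * cjr (fl q) (topT F q (wv (-1)))) * (lv (wEl (f0 q) (fm q)))⁻¹ =
      invR (F := F) q := by
  obtain ⟨hml, h0m, h0l⟩ : fm q ≠ fl q ∧ f0 q ≠ fm q ∧ f0 q ≠ fl q :=
    ⟨fm_ne_fl, (ne_of_low f0_low).1, (ne_of_low f0_low).2⟩
  have hw : topT F q (wv 1) = wEl (fm q) (fl q) := emb2_wv _
  have hw' : topT F q (wv (-1)) = (wEl (fm q) (fl q))⁻¹ := by rw [wv_neg_one, map_inv, hw]
  have key : lv (topT F q (wv 1)) * cjr (fl q) (topT F q (wv (-1))) =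
      rr (F := F) (fm q) * rr (fl q) := by
    rw [hw, hw', cjr_eq, map_inv, ← mul_assoc, ← mul_assoc, wEl_rr hml, mul_inv_cancel_right]
  rw [key, mul_inv_eq_iff_eq_mul, ← mul_assoc, wEl_rr h0m, invR, mul_assoc, mul_assoc]
  congr 1
  rw [← emb2_wv h0m]
  exact (commute_rr_lv (by omega) le_rfl _ _
    (fun i => by fin_cases i; exacts [h0l, hml]) _).eq.symm

theorem nodeB_orth (A : SL2 F) : nodeB lv (invR (F := F) q) A = cjr (fl q) (topT F q A) := by
  rw [nodeB_apply, conj_invR_top]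

/-- The orthogonal group itself. -/
noncomputable def orthData (q : ℕ) : Data F (oGroup (plusQ (F := F) (q + 4))) q where
  φ := lv
  r := invR q
  hmid A := (Commute.mul_left (commute_rr_lv (by omega) (by omega) _ _ (fun i => (midF_ne i).1) A)
    (commute_rr_lv (by omega) (by omega) _ _ (fun i => (midF_ne i).2) A)).symm
  r_sq := invR_sq
  farLow a c hac ha hc t A := by
    rw [nodeB_orth, ← cjr_xt_fix hac (ne_of_low ha).2 (ne_of_low hc).2 t]
    refine Commute.map ?_ _
    have := (Subgroup.centralizer {(xt a c t : SLn (q + 4) F)}).comap (topT F q)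
    have hle : (⊤ : Subgroup (SL2 F)) ≤ (Subgroup.centralizer {(xt a c t : SLn (q + 4) F)}).comap (topT F q) := by
      rw [← sl2_gen, Subgroup.closure_le]
      rintro _ (⟨s, rfl⟩ | ⟨s, rfl⟩) <;> rw [SetLike.mem_coe, Subgroup.mem_comap,
        Subgroup.mem_centralizer_singleton_iff]
      · rw [emb2_up]
        exact (commute_xt hac fm_ne_fl (ne_of_low ha).2 (ne_of_low hc).1 t s).eq.symm
      · rw [emb2_low]
        exact (commute_xt hac fm_ne_fl.symm (ne_of_low ha).1 (ne_of_low hc).2 t s).eq.symm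
    exact (Subgroup.mem_centralizer_singleton_iff.1 (hle (mem_top A)) :
      topT F q A * xt a c t = xt a c t * topT F q A).symm
  farTop A B := by
    rw [nodeB_orth]
    refine comm_sl2 (f := lv.comp (topT F q)) (g := (cjr (fl q)).comp (topT F q)) ?_ A B
    rintro _ (⟨u, rfl⟩ | ⟨u, rfl⟩) _ (⟨v, rfl⟩ | ⟨v, rfl⟩) <;>
      simp only [MonoidHom.comp_apply, emb2_up, emb2_low]
    exacts [(lv_top_comm fm_ne_fl u v).1, (lv_top_comm fm_ne_fl u v).2.1,
      (lv_top_comm fm_ne_fl u v).2.2.1, (lv_top_comm fm_ne_fl u v).2.2.2]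
  X := by rw [nodeB_orth]; exact orth_X

theorem invR_mem : invR (F := F) q ∈ commutator (oGroup (plusQ (F := F) (q + 4))) := by
  rw [← orth_X]
  exact mul_mem (mul_mem (lv_mem_omega (by omega) _)
    (mul_mem (lv_mem_omega (by omega) _) (cjr_mem_omega (by omega) _ _))) (inv_mem (lv_mem_omega (by omega) _))

theorem emb_id {n : ℕ} (hn : 2 ≤ n) (A : SLn n F) : emb id Function.injective_id A = A := by
  have : Nontrivial (Fin n) := Fin.nontrivial_iff_two_le.2 hn
  induction A using CfsgLib.Linear.transvection_induction with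
  | htransvec i j hij c => rw [← xt_eq hij, emb_xt _ _ hij]; rfl
  | hmul A B hA hB => rw [map_mul, hA, hB]

/-- Data give a map out of `Ω`. -/
theorem Data.exists_hom {G : Type} [Group G] (D : Data F G q) :
    ∃ h : commutator (oGroup (plusQ (F := F) (q + 4))) →* G,
      (∀ A, h ⟨lv A, lv_mem_omega (by omega) A⟩ = D.φ A) ∧ h ⟨invR q, invR_mem⟩ = D.r := by
  set P : Data F (G × oGroup (plusQ (F := F) (q + 4))) q := D.prod (orthData q) with hP
  let W : DMult.Over F (q + 4) (G × oGroup (plusQ (F := F) (q + 4))) q :=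
    { S := P.fork, ι := id, inj := Function.injective_id, π := MonoidHom.snd _ _
      hφ := fun A => by rw [emb_id (by omega)]; rfl
      hb := fun w => nodeB_orth w }
  set E : Subgroup (G × oGroup (plusQ (F := F) (q + 4))) := ⨆ k, (W.S.node k).range
  have hφE : ∀ A, P.φ A ∈ E := fun A => DMult.φ_mem_nodes W.S A
  have hbE : ∀ A, nodeB P.φ P.r A ∈ E := fun A =>
    le_iSup (fun k => (W.S.node k).range) none ⟨A, rfl⟩
  have hrE : P.r ∈ E := by
    rw [← P.X]
    exact mul_mem (mul_mem (hφE _) (mul_mem (hφE _) (hbE _))) (inv_mem (hφE _))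
  have hker : ∀ z ∈ E, z.2 = 1 → z = 1 := fun z hz h1 => by
    refine W.ker_trivial ?_ z hz h1
    exact P.corner_eq
  set π' : E →* oGroup (plusQ (F := F) (q + 4)) := (MonoidHom.snd _ _).comp E.subtype with hπ'
  have hinj : Function.Injective π' := (injective_iff_map_eq_one π').2 fun z hz =>
    Subtype.ext (hker z.1 z.2 hz)
  have hle : commutator (oGroup (plusQ (F := F) (q + 4))) ≤ π'.range := by
    refine omega_le (by omega) _ (f0 q) (fm q) (fl q) fm_ne_fl (ne_of_low f0_low).1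
      (ne_of_low f0_low).2 (fun A => ⟨⟨_, hφE A⟩, rfl⟩)
      (fun t => ⟨⟨_, hbE (up t)⟩, ?_⟩) (fun t => ⟨⟨_, hbE (low t)⟩, ?_⟩)
    · exact (nodeB_orth (up t)).trans (congrArg _ (emb2_up _ t))
    · exact (nodeB_orth (low t)).trans (congrArg _ (emb2_low _ t))
  let e := MonoidHom.ofInjective hinj
  refine ⟨((MonoidHom.fst _ _).comp E.subtype).comp (e.symm.toMonoidHom.comp (Subgroup.inclusion hle)),
    fun A => ?_, ?_⟩
  · show (e.symm ⟨lv A, _⟩).1.1 = D.φ A
    rw [show (⟨lv A, hle (lv_mem_omega (by omega) A)⟩ : π'.range) = e ⟨P.φ A, hφE A⟩ from Subtype.ext rfl,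
      e.symm_apply_apply]
    rfl
  · show (e.symm ⟨invR q, _⟩).1.1 = D.r
    rw [show (⟨invR q, hle invR_mem⟩ : π'.range) = e ⟨P.r, hrE⟩ from Subtype.ext rfl, e.symm_apply_apply]
    rfl

end orth

end CfsgLib.OmShort
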