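import Cfsg.Agent.BPres.PSL
import Cfsg.Agent.SLShort.Block

/-!
Two elements generating a product of two copies of `SL₂`, and two elements for the centraliser
argument in `SL n`.
-/

set_option autoImplicit false
set_option linter.style.haveILetI false

namespace CfsgLib.OmShort

open Matrix Subgroup
open CfsgLib.An (SLn xt xt_coe xt_eq)
open CfsgLib.SL2Pres (hSL hSL_val wSL wSL_val ιSL ιSL_val exists_generator)
open Multiplicative (ofAdd)
open scoped commutatorElement

universe v

variable {F : Type v} [Field F] [Fintype F]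

theorem pair_left {G : Type*} [Group G] (a b : G) : a ∈ closure ({a, b} : Set G) :=
  Subgroup.subset_closure (Or.inl rfl)

theorem pair_right {G : Type*} [Group G] (a b : G) : b ∈ closure ({a, b} : Set G) :=
  Subgroup.subset_closure (Or.inr rfl)

theorem pair_le {G : Type*} [Group G] {H : Subgroup G} {a b : G} (ha : a ∈ H) (hb : b ∈ H) :
    closure ({a, b} : Set G) ≤ H := by
  rw [closure_le]
  rintro _ (rfl | rfl)
  exacts [ha, hb]

/-- A subgroup of a product with both projections onto and one good element is everything. -/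
theorem prod_eq_top {A B : Type*} [Group A] [Group B] (H : Subgroup (A × B))
    (h1 : H.map (MonoidHom.fst A B) = ⊤) (h2 : H.map (MonoidHom.snd A B) = ⊤) (z : A) (hz : (z, (1 : B)) ∈ H)
    (hN : ∀ K : Subgroup A, K.Normal → z ∈ K → K = ⊤) : H = ⊤ := by
  have hK : H.comap (MonoidHom.inl A B) = ⊤ := by
    refine hN _ ⟨fun n hn g => ?_⟩ hz
    obtain ⟨⟨g', b⟩, hb, rfl⟩ := (h1 ▸ mem_top g : g ∈ H.map (MonoidHom.fst A B))
    have := H.mul_mem (H.mul_mem hb (show ((n, 1) : A × B) ∈ H from hn)) (H.inv_mem hb)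
    show ((_, 1) : A × B) ∈ H
    simpa using this
  rw [eq_top_iff]
  rintro ⟨a, b⟩ -
  obtain ⟨⟨a', b'⟩, hb, rfl⟩ := (h2 ▸ mem_top b : b ∈ H.map (MonoidHom.snd A B))
  have h : ((a * a'⁻¹, 1) : A × B) ∈ H := (hK ▸ mem_top (a * a'⁻¹) :)
  simpa using H.mul_mem h hb

theorem prime_gen (hp : (Fintype.card F).Prime) :
    Subgroup.closure ({xt 0 1 1, wSL} : Set (SLn 2 F)) = ⊤ ∧
      ∀ K : Subgroup (SLn 2 F), K.Normal → (xt 0 1 1 : SLn 2 F) ∈ K → K = ⊤ := by
  classical
  haveI := Fact.mk hp
  haveI : CharP F (Fintype.card F) := by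
    obtain ⟨p, hcp⟩ := CharP.exists F
    haveI := hcp
    haveI := Fact.mk (CharP.char_is_prime F p)
    obtain ⟨m, -, hm⟩ := FiniteField.card F p
    have : (m : ℕ) = 1 := by
      rw [hm] at hp
      exact (Nat.Prime.pow_eq_iff hp).1 rfl |>.2
    rw [hm, this, pow_one]; exact hcp
  have key : ∀ K : Subgroup (SLn 2 F), (xt 0 1 1 : SLn 2 F) ∈ K →
      (∀ a ∈ K, wSL * a * (wSL : SLn 2 F)⁻¹ ∈ K) → K = ⊤ := by
    intro K hu hw
    have hall : ∀ t, (xt 0 1 t : SLn 2 F) ∈ K := fun t => by
      obtain ⟨z, rfl⟩ := ((ZMod.castHom (dvd_refl (Fintype.card F)) F).injective.bijective_of_nat_card_le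
        (by rw [Nat.card_eq_fintype_card, Nat.card_eq_fintype_card, ZMod.card])).2 t
      obtain ⟨k, rfl⟩ := ZMod.natCast_zmod_surjective z
      rw [map_natCast]
      induction k with
      | zero => rw [Nat.cast_zero, An.xt_zero]; exact K.one_mem
      | succ k ih =>
        rw [Nat.cast_succ, An.xt_add (by decide)]
        exact K.mul_mem ih hu
    rw [eq_top_iff]
    rintro y -
    refine BPres.xt_induction le_rfl (fun y => y ∈ K) (fun i j hij t => ?_) (fun _ _ => K.mul_mem) y
    fin_cases i <;> fin_cases j <;> try exact absurd rfl hij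
    · exact hall t
    · have e : (xt 1 0 t : SLn 2 F) = wSL * xt 0 1 (-t) * (wSL : SLn 2 F)⁻¹ := by
        rw [eq_mul_inv_iff_mul_eq]
        refine Subtype.ext ?_
        show (xt 1 0 t : SLn 2 F).1 * wSL.1 = wSL.1 * (xt 0 1 (-t) : SLn 2 F).1
        rw [xt_coe (by decide), xt_coe (by decide), wSL_val]
        ext a b
        fin_cases a <;> fin_cases b <;> simp [transvection, Matrix.mul_apply, Fin.sum_univ_two]
      show (xt 1 0 t : SLn 2 F) ∈ K
      rw [e]; exact hw _ (hall _)
  refine ⟨key _ (Subgroup.subset_closure (Or.inl rfl)) fun a ha => ?_, fun K hK hu => key K hu fun a ha => hK.conj_mem a ha _⟩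
  have hw : (wSL : SLn 2 F) ∈ closure ({xt 0 1 1, wSL} : Set (SLn 2 F)) := Subgroup.subset_closure (Or.inr rfl)
  exact mul_mem (mul_mem hw ha) (inv_mem hw)

theorem xt_one_pow (k : ℕ) : (xt 0 1 1 : SLn 2 F) ^ k = xt 0 1 (k : F) := by
  induction k with
  | zero => rw [pow_zero, Nat.cast_zero, An.xt_zero]
  | succ k ih => rw [pow_succ, ih, Nat.cast_succ, An.xt_add (by decide)]

theorem normal_eq_top (h4 : 4 ≤ Fintype.card F) (K : Subgroup (SLn 2 F)) [K.Normal] {z : SLn 2 F}
    (hz : z ∈ K) {i j : Fin 2} (hij : (i ≠ j ∧ z.1 i j ≠ 0) ∨ z.1 0 0 ≠ z.1 1 1) : K = ⊤ := by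
  classical
  have hx : ∃ x : F, x ≠ 0 ∧ x ^ 2 ≠ 1 := by
    obtain ⟨x, -, hx⟩ := Finset.exists_mem_notMem_of_card_lt_card
      (s := ({0, 1, -1} : Finset F)) (t := Finset.univ)
      (lt_of_le_of_lt Finset.card_le_three (by rw [Finset.card_univ]; omega))
    simp only [Finset.mem_insert, Finset.mem_singleton, not_or] at hx
    exact ⟨x, hx.1, fun e => (mul_self_eq_one_iff.1 (show x * x = 1 by rw [← sq]; exact e)).elim hx.2.1 hx.2.2⟩
  have := Linear.isSimpleGroup_PSL (ι := Fin 2) (F := F) (.inr hx)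
  let f : SLn 2 F →* ProjectiveSpecialLinearGroup (Fin 2) F := QuotientGroup.mk' _
  have hn' : (K.map f).Normal := Subgroup.Normal.map inferInstance f (QuotientGroup.mk'_surjective _)
  rcases hn'.eq_bot_or_eq_top with h | h
  · exfalso
    have hzc : z ∈ center (SLn 2 F) :=
      (QuotientGroup.eq_one_iff z).1 (mem_bot.1 (h ▸ mem_map_of_mem f hz))
    obtain ⟨c, -, hc⟩ := Matrix.SpecialLinearGroup.mem_center_iff.1 hzc
    rcases hij with ⟨hne, hij⟩ | hij
    · exact hij (by rw [← hc]; simp [Matrix.scalar_apply, hne])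
    · exact hij (by rw [← hc]; simp [Matrix.scalar_apply])
  · refine eq_top_iff.2 ?_
    rw [← Linear.commutator_SL_eq_top (ι := Fin 2) (F := F) (.inr hx), _root_.commutator_def, commutator_le]
    intro a _ b _
    obtain ⟨x, hxK, ex⟩ := (h ▸ mem_top (f a) : f a ∈ K.map f)
    have hc : ∀ y, y * (x⁻¹ * a) = x⁻¹ * a * y := fun y => mem_center_iff.1 ((QuotientGroup.eq).1 ex) y
    have e : ⁅a, b⁆ = x * (b * x⁻¹ * b⁻¹) := by
      rw [commutatorElement_def, show a * b * a⁻¹ * b⁻¹ = x * ((x⁻¹ * a) * b * (x⁻¹ * a)⁻¹) * x⁻¹ * b⁻¹ by group,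
        ← hc b, mul_inv_cancel_right]
      group
    rw [e]
    exact mul_mem hxK ((inferInstance : K.Normal).conj_mem _ (inv_mem hxK) b)

/-- Two elements generate the product of two copies of `SL₂`. -/
theorem prod_two_gen :
    ∃ x₁ x₂ : SLn 2 F × SLn 2 F, Subgroup.closure ({x₁, x₂} : Set (SLn 2 F × SLn 2 F)) = ⊤ := by
  classical
  suffices ∃ a c : SLn 2 F, closure ({a, c} : Set (SLn 2 F)) = ⊤ ∧ ∃ k : ℕ, c ^ k = 1 ∧
      ∀ K : Subgroup (SLn 2 F), K.Normal → a ^ k ∈ K → K = ⊤ by
    obtain ⟨a, c, hgen, k, hk, hN⟩ := this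
    refine ⟨(a, c), (c, a), prod_eq_top _ ?_ ?_ (a ^ k) ?_ hN⟩
    · rw [MonoidHom.map_closure, Set.image_pair]
      exact hgen
    · rw [MonoidHom.map_closure, Set.image_pair, Set.pair_comm]
      exact hgen
    · rw [show ((a ^ k, 1) : SLn 2 F × SLn 2 F) = (a, c) ^ k from Prod.ext rfl hk.symm]
      exact pow_mem (pair_left _ _) k
  have hb3 : ((ιSL (ofAdd (1 : F)) * wSL : SLn 2 F)) ^ 3 = 1 := by
    refine Subtype.ext ?_
    rw [pow_succ, pow_two, Matrix.SpecialLinearGroup.coe_mul, Matrix.SpecialLinearGroup.coe_mul,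
      Matrix.SpecialLinearGroup.coe_mul, ιSL_val, wSL_val]
    ext i j
    fin_cases i <;> fin_cases j <;> simp [Matrix.mul_apply, Fin.sum_univ_two]
  by_cases hp : (Fintype.card F).Prime
  · obtain ⟨hgen, hN⟩ := prime_gen hp
    rcases eq_or_ne (Fintype.card F) 2 with h2 | h2
    · haveI : CharP F 2 := by
        obtain ⟨p, hcp⟩ := CharP.exists F
        haveI := hcp
        haveI := Fact.mk (CharP.char_is_prime F p)
        obtain ⟨m, -, hm⟩ := FiniteField.card F p
        have : p = 2 := by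
          rw [hm] at h2
          exact (Nat.Prime.pow_eq_iff (Nat.prime_two)).1 h2 |>.1
        rwa [this] at hcp
      have two : (2 : F) = 0 := CharTwo.two_eq_zero
      refine ⟨xt 0 1 1, ιSL (ofAdd 1) * wSL, ?_, 3, hb3, fun K hK h => hN K hK ?_⟩
      · refine eq_top_iff.2 (hgen ▸ (closure_le _).2 ?_)
        have e : (xt 0 1 1 : SLn 2 F) = ιSL (ofAdd 1) := Subtype.ext (by
          rw [xt_coe (by decide), ιSL_val]; ext a b; fin_cases a <;> fin_cases b <;> simp [transvection])
        rintro _ (rfl | rfl)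
        · exact pair_left _ _
        · have := mul_mem (inv_mem (pair_left (xt 0 1 1 : SLn 2 F) (ιSL (ofAdd 1) * wSL)))
            (pair_right (xt 0 1 1 : SLn 2 F) (ιSL (ofAdd 1) * wSL))
          rw [e, inv_mul_cancel_left] at this
          rwa [e]
      · rw [xt_one_pow] at h
        convert h using 2
        push_cast
        linear_combination -two
    · have hw4 : (wSL : SLn 2 F) ^ 4 = 1 := by
        refine Subtype.ext ?_
        rw [pow_succ, pow_succ, pow_two, Matrix.SpecialLinearGroup.coe_mul,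
          Matrix.SpecialLinearGroup.coe_mul, Matrix.SpecialLinearGroup.coe_mul, wSL_val]
        ext i j
        fin_cases i <;> fin_cases j <;> simp [Matrix.mul_apply, Fin.sum_univ_two]
      refine ⟨xt 0 1 1, wSL, hgen, 4, hw4, fun K hK h => hN K hK ?_⟩
      obtain ⟨r, hr⟩ := (Nat.Prime.odd_of_ne_two hp h2)
      have hcard : ((Fintype.card F : ℕ) : F) = 0 := Nat.cast_card_eq_zero F
      rw [xt_one_pow] at h
      have hdvd : ¬ Fintype.card F ∣ 4 := fun hd => h2 ((Nat.prime_dvd_prime_iff_eq hp Nat.prime_two).1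
        (hp.dvd_of_dvd_pow (show Fintype.card F ∣ 2 ^ 2 from hd)))
      obtain ⟨s, hs⟩ := Nat.exists_mul_mod_eq_one_of_coprime
        ((hp.coprime_iff_not_dvd.2 hdvd).symm) hp.one_lt
      have := pow_mem h s
      rw [← xt_one_pow, ← pow_mul, xt_one_pow] at this
      convert this using 2
      rw [← Nat.div_add_mod (4 * s) (Fintype.card F), hs.2]
      push_cast
      rw [hcard]; ring
  · have h4 : 4 ≤ Fintype.card F := by
      have h1 := Fintype.one_lt_card (α := F)
      by_contra h
      exact hp ((show Fintype.card F = 2 ∨ Fintype.card F = 3 by omega).elim (fun e => e ▸ Nat.prime_two)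
        fun e => e ▸ Nat.prime_three)
    obtain ⟨g0, hg0, hg, -⟩ := exists_generator (F := F)
    have hgen := BPres.SL2_hb_gen h4 hg0 hg
    set g : Fˣ := Units.mk0 g0 hg0
    set h : SLn 2 F := hSL g
    set b : SLn 2 F := ιSL (ofAdd 1) * wSL
    by_cases hq : Fintype.card F = 4
    · have hg3 : g0 ^ 3 = 1 := by
        have := pow_orderOf_eq_one g0
        rwa [hg, hq] at this
      have hg2 : g0 ^ 2 ≠ 1 := fun e => by
        have h2 : orderOf g0 ∣ 2 := orderOf_dvd_of_pow_eq_one e
        rw [hg, hq] at h2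
        have := Nat.le_of_dvd (by norm_num) h2
        omega
      have hh3 : h ^ 3 = 1 := by
        rw [← map_pow, show g ^ 3 = 1 from Units.ext (by simpa [g] using hg3), map_one]
      refine ⟨h * b, h, ?_, 3, hh3, fun K hK hc => normal_eq_top h4 K hc (i := 0) (j := 1) (.inl ⟨by decide, ?_⟩)⟩
      · refine eq_top_iff.2 (hgen ▸ (closure_le _).2 ?_)
        rintro _ (rfl | rfl)
        · exact pair_right _ _
        · have := mul_mem (inv_mem (pair_right (h * b) h)) (pair_left (h * b) h)
          rwa [inv_mul_cancel_left] at this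
      · have hM : (h * b).1 = !![-g0, g0; -g0⁻¹, 0] := by
          rw [Matrix.SpecialLinearGroup.coe_mul, Matrix.SpecialLinearGroup.coe_mul, hSL_val, ιSL_val, wSL_val]
          ext i j
          fin_cases i <;> fin_cases j <;> simp [g, Matrix.mul_apply, Fin.sum_univ_two]
        rw [pow_succ, pow_two, Matrix.SpecialLinearGroup.coe_mul, Matrix.SpecialLinearGroup.coe_mul, hM]
        simp [Matrix.mul_apply, Fin.sum_univ_two]
        refine ⟨fun e => hg2 ?_, hg0⟩
        rw [mul_inv_cancel₀ hg0] at e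
        linear_combination e
    · refine ⟨h, b, hgen, 3, hb3, fun K hK hc => normal_eq_top h4 K hc (i := 0) (j := 1) (.inr ?_)⟩
      rw [← map_pow, hSL_val]
      show ((g ^ 3 : Fˣ) : F) ≠ (((g ^ 3 : Fˣ)⁻¹ : Fˣ) : F)
      intro e
      have e6 : g ^ 6 = 1 := by
        have : g ^ 3 = (g ^ 3)⁻¹ := Units.ext e
        calc g ^ 6 = g ^ 3 * g ^ 3 := by rw [← pow_add]
          _ = g ^ 3 * (g ^ 3)⁻¹ := by rw [← this]
          _ = 1 := mul_inv_cancel _
      have h6 : g0 ^ 6 = 1 := by simpa [g] using congrArg Units.val e6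
      have hd : orderOf g0 ∣ 6 := orderOf_dvd_of_pow_eq_one h6
      rw [hg] at hd
      have hle := Nat.le_of_dvd (by norm_num) hd
      have : Fintype.card F ≤ 7 := by omega
      interval_cases hF : Fintype.card F <;> first | omega | (norm_num at hd; done) | (norm_num at hp)

/-- A subgroup normalised by two generators, containing the second and the square of the first. -/
theorem mid_gens (m : ℕ) (hm : 2 ≤ m) : ∃ g₁ g₂ : SLn m F, Subgroup.closure ({g₁, g₂} : Set (SLn m F)) = ⊤ ∧
    ∀ C : Subgroup (SLn m F), C.Normal → g₁ * g₁ ∈ C → g₂ ∈ C → C = ⊤ := by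
  classical
  have hcomm : ∀ {g₁ g₂ : SLn m F}, closure ({g₁, g₂} : Set (SLn m F)) = ⊤ →
      ∀ C : Subgroup (SLn m F), C.Normal → g₁ * g₁ ∈ C → g₂ ∈ C →
        commutator (SLn m F) ≤ C ∧ ∀ x, x * x ∈ C := by
    intro g₁ g₂ hgen C hC h1 h2
    have hcases : ∀ x : SLn m F, x ∈ C ∨ g₁⁻¹ * x ∈ C := by
      intro x
      have hx : x ∈ closure ({g₁, g₂} : Set (SLn m F)) := hgen ▸ mem_top x
      induction hx using closure_induction with
      | mem x hx =>
        rcases hx with rfl | rfl
        · exact .inr (by rw [inv_mul_cancel]; exact one_mem _)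
        · exact .inl h2
      | one => exact .inl (one_mem _)
      | mul x y _ _ hx hy =>
        rcases hx with hx | hx <;> rcases hy with hy | hy
        · exact .inl (mul_mem hx hy)
        · refine .inr ?_
          rw [show g₁⁻¹ * (x * y) = g₁⁻¹ * x * (g₁⁻¹)⁻¹ * (g₁⁻¹ * y) by group]
          exact mul_mem (hC.conj_mem _ hx _) hy
        · refine .inr ?_
          rw [← mul_assoc]; exact mul_mem hx hy
        · refine .inl ?_
          rw [show x * y = g₁ * (g₁⁻¹ * x) * g₁⁻¹ * (g₁ * g₁) * (g₁⁻¹ * y) by group]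
          exact mul_mem (mul_mem (hC.conj_mem _ hx _) h1) hy
      | inv x _ hx =>
        rcases hx with hx | hx
        · exact .inl (inv_mem hx)
        · refine .inr ?_
          rw [show g₁⁻¹ * x⁻¹ = (g₁ * g₁)⁻¹ * (g₁ * (g₁⁻¹ * x)⁻¹ * g₁⁻¹) by group]
          exact mul_mem (inv_mem h1) (hC.conj_mem _ (inv_mem hx) _)
    refine ⟨?_, fun x => ?_⟩
    · rw [_root_.commutator_def, commutator_le]
      intro a _ b _
      rw [← QuotientGroup.eq_one_iff (N := C), ← QuotientGroup.mk'_apply, map_commutatorElement,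
        commutatorElement_eq_one_iff_mul_comm]
      have key : ∀ x : SLn m F, (QuotientGroup.mk' C) x = 1 ∨ (QuotientGroup.mk' C) x = QuotientGroup.mk' C g₁ :=
        fun x => (hcases x).imp (fun h => (QuotientGroup.eq_one_iff x).2 h)
          fun h => (QuotientGroup.eq.2 h).symm
      rcases key a with e | e <;> rcases key b with e' | e' <;> rw [e, e'] <;> simp
    · rcases hcases x with h | h
      · exact mul_mem h h
      · rw [show x * x = g₁ * (g₁⁻¹ * x) * g₁⁻¹ * (g₁ * g₁) * (g₁⁻¹ * x) by group]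
        exact mul_mem (mul_mem (hC.conj_mem _ h _) h1) h
  rcases (show m = 2 ∨ 3 ≤ m by omega) with rfl | h3
  · rcases eq_or_ne (Fintype.card F) 2 with h2 | h2
    · -- the order two element second
      obtain ⟨hgen, hN⟩ := prime_gen (F := F) (h2 ▸ Nat.prime_two)
      refine ⟨ιSL (ofAdd 1) * wSL, xt 0 1 1, ?_, fun C hC _ h => hN C hC h⟩
      refine eq_top_iff.2 (hgen ▸ (closure_le _).2 ?_)
      have e : (xt 0 1 1 : SLn 2 F) = ιSL (ofAdd 1) := Subtype.ext (by
        rw [xt_coe (by decide), ιSL_val]; ext a b; fin_cases a <;> fin_cases b <;> simp [transvection])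
      rintro _ (rfl | rfl)
      · exact pair_right _ _
      · have := mul_mem (inv_mem (pair_right (ιSL (ofAdd 1) * wSL : SLn 2 F) (xt 0 1 1)))
          (pair_left (ιSL (ofAdd 1) * wSL : SLn 2 F) (xt 0 1 1))
        rw [e, inv_mul_cancel_left] at this
        rwa [e]
    obtain ⟨y, hy⟩ := SLShort.exists_flip_gen (F := F)
    refine ⟨y, SLShort.flip2 y, hy, fun C hC h1 hc => ?_⟩
    obtain ⟨hcom, hsq⟩ := hcomm hy C hC h1 hc
    by_cases two : (2 : F) = 0
    · have hx : ∃ x : F, x ≠ 0 ∧ x ^ 2 ≠ 1 := by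
        obtain ⟨x, -, hx⟩ := Finset.exists_mem_notMem_of_card_lt_card
          (s := ({0, 1} : Finset F)) (t := Finset.univ)
          (lt_of_le_of_lt Finset.card_le_two (by
            rw [Finset.card_univ]
            have := Fintype.one_lt_card (α := F)
            omega))
        simp only [Finset.mem_insert, Finset.mem_singleton, not_or] at hx
        refine ⟨x, hx.1, fun e => hx.2 ?_⟩
        rcases mul_self_eq_one_iff.1 (show x * x = 1 by rw [← sq]; exact e) with h | h
        · exact h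
        · rw [h]; linear_combination -two
      rw [eq_top_iff, ← Linear.commutator_SL_eq_top (ι := Fin 2) (F := F) (.inr hx)]
      exact hcom
    · rw [eq_top_iff]
      rintro A -
      refine BPres.xt_induction le_rfl (fun A => A ∈ C) (fun i j hij t => ?_) (fun _ _ => C.mul_mem) A
      haveI : NeZero (2 : F) := ⟨two⟩
      have := hsq (xt i j (t / 2))
      rwa [← An.xt_add hij, add_halves] at this
  · have : ∃ g₁ g₂ : SLn m F, closure ({g₁, g₂} : Set (SLn m F)) = ⊤ := by
      rcases (show m = 3 ∨ 4 ≤ m by omega) with rfl | h4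
      · obtain ⟨g, hg⟩ := RegUnip.twoConj (F := F)
        exact ⟨_, _, hg⟩
      · obtain ⟨v, -, hv⟩ := RegUnip.two_regular (F := F) h4
        exact ⟨_, v, hv⟩
    obtain ⟨g₁, g₂, hgen⟩ := this
    refine ⟨g₁, g₂, hgen, fun C hC h1 h2 => ?_⟩
    rw [eq_top_iff, ← Linear.commutator_SL_eq_top (ι := Fin m) (F := F) (.inl (by rw [Fintype.card_fin]; exact h3))]
    exact (hcomm hgen C hC h1 h2).1

end CfsgLib.OmShort
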