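import Cfsg.Agent.OmShort.Rels
import Cfsg.Agent.Quad.POmega

/-!
The presentations of `Ω` and `PΩ` of plus type on eight generators.
-/

set_option autoImplicit false
set_option linter.style.haveILetI false

namespace CfsgLib.OmShort

open Matrix Subgroup
open CfsgLib.An
open CfsgLib.BPres (IsPres HasPresN exists_word lift_map lift_comp hasPresN_of)
open CfsgLib.En (SL2)
open CfsgLib.QP (up low)
open CfsgLib.Quad (plusQ oGroup)

universe u

variable {F : Type u} [Field F] [Fintype F] {q : ℕ}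

/-- `Ω` from `SL n`, one more generator and the pairs. -/
theorem hasPresN_omega {k c : ℕ} (hP : HasPresN (SLn (q + 4) F) 6 k)
    (l : List (SLn (q + 4) F × SL2 F)) (hlen : l.length ≤ c)
    (htrue : ∀ {G : Type u} [Group G] (D : Data F G q), ∀ p ∈ l, Commute (D.φ p.1) (nodeB D.φ D.r p.2))
    (hsuff : ∀ {G : Type} [Group G] (φ : SLn (q + 4) F →* G) (r : G),
      (∀ A, Commute (φ (emb (midF q) midF_injective A)) r) → r * r = 1 →
      (∀ p ∈ l, Commute (φ p.1) (nodeB φ r p.2)) → FarOK φ r) :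
    HasPresN ↥(commutator (oGroup (plusQ (F := F) (q + 4)))) 8 (k + c + 4) := by
  classical
  obtain ⟨R1, f1, hR1, P1⟩ := hP
  obtain ⟨g₁, g₂, hgen, hC⟩ := mid_gens (F := F) (q + 2) (by omega)
  choose W1 hW1 using exists_word P1.gen
  let e : SLn (q + 2) F →* SLn (q + 4) F := emb (midF q) midF_injective
  let L : SLn (q + 4) F → FreeGroup (Fin 6 ⊕ Unit) := fun x => FreeGroup.map Sum.inl (W1 x)
  let Rw : FreeGroup (Fin 6 ⊕ Unit) := FreeGroup.of (Sum.inr ())
  let nd : SL2 F → FreeGroup (Fin 6 ⊕ Unit) := fun A => Rw * L (topT F q A) * Rw⁻¹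
  let comm : FreeGroup (Fin 6 ⊕ Unit) → FreeGroup (Fin 6 ⊕ Unit) → FreeGroup (Fin 6 ⊕ Unit) :=
    fun a b => a * b * (b * a)⁻¹
  let rel₁ := L (e g₁) * Rw * (L (e g₁))⁻¹ * Rw
  let rel₂ := L (e g₂) * Rw * (L (e g₂))⁻¹ * Rw⁻¹
  let relX := L (wEl (f0 q) (fm q)) * (L (topT F q (wv 1)) * nd (wv (-1))) *
    (L (wEl (f0 q) (fm q)))⁻¹ * Rw⁻¹
  let R0 : List (FreeGroup (Fin 6 ⊕ Unit)) := rel₁ :: rel₂ :: relX :: l.map fun p => comm (L p.1) (nd p.2)
  let R := R1.map (FreeGroup.map Sum.inl) ++ R0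
  let Ω := commutator (oGroup (plusQ (F := F) (q + 4)))
  let φΩ : SLn (q + 4) F →* Ω := (lv (F := F) (n := q + 4)).codRestrict Ω (lv_mem_omega (by omega))
  let rΩ : Ω := ⟨invR q, invR_mem⟩
  let f : Fin 6 ⊕ Unit → Ω := Sum.elim (fun i => φΩ (f1 i)) fun _ => rΩ
  have words : ∀ {G : Type u} [Group G] (φ : SLn (q + 4) F →* G) (f' : Fin 6 ⊕ Unit → G),
      (∀ i, f' (Sum.inl i) = φ (f1 i)) → ∀ x, FreeGroup.lift f' (L x) = φ x := fun φ f' h x => by
    rw [lift_map, show (fun i => f' (Sum.inl i)) = fun i => φ (f1 i) from funext h, ← lift_comp, hW1]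
  have hfL : ∀ x, FreeGroup.lift f (L x) = φΩ x := words φΩ f fun _ => rfl
  have hfR : FreeGroup.lift f Rw = rΩ := FreeGroup.lift_apply_of
  have hO : (orthData (F := F) q).φ = lv := rfl
  have hgenΩ : closure (Set.range f) = ⊤ := by
    rw [← FreeGroup.range_lift_eq_closure, eq_top_iff]
    rintro ⟨x, hx⟩ -
    set H : Subgroup (oGroup (plusQ (F := F) (q + 4))) := (FreeGroup.lift f).range.map Ω.subtype
    have hlv : ∀ A, lv A ∈ H := fun A => ⟨φΩ A, ⟨L A, hfL A⟩, rfl⟩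
    have hr : invR q ∈ H := ⟨rΩ, ⟨Rw, hfR⟩, rfl⟩
    have hcj : ∀ A, cjr (fl q) (topT F q A) ∈ H := fun A => by
      rw [← conj_invR_top]
      exact mul_mem (mul_mem hr (hlv _)) (inv_mem hr)
    obtain ⟨y, hy, e⟩ := omega_le (by omega) H (f0 q) (fm q) (fl q) fm_ne_fl (ne_of_low f0_low).1
      (ne_of_low f0_low).2 hlv (fun t => by rw [← emb2_up]; exact hcj _)
      (fun t => by rw [← emb2_low fm_ne_fl]; exact hcj _) hx
    rwa [show y = ⟨x, hx⟩ from Subtype.ext e] at hy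
  have hX := (orthData (F := F) q).X
  have hmidO : ∀ A, Commute (lv (e A)) (invR (F := F) q) := (orthData (F := F) q).hmid
  refine (hasPresN_of (R := R) (f := f) (k := 7) (r := k + c + 3) ⟨fun s hs => ?_, hgenΩ,
    fun G _ f' hf' => ?_⟩ (by simp) (by simp [R, R0]; omega)).pad.mono (by omega)
  · simp only [R, R0, List.mem_append, List.mem_map, List.mem_cons] at hs
    rcases hs with ⟨t, ht, rfl⟩ | rfl | rfl | rfl | ⟨p, hp, rfl⟩
    · rw [lift_map]
      exact (lift_comp φΩ f1 t).symm.trans (by rw [P1.rel t ht, map_one])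
    all_goals
      refine Subtype.ext ?_
      simp only [rel₁, rel₂, relX, comm, nd, map_mul, map_inv, hfL, hfR, Subgroup.coe_mul,
        Subgroup.coe_inv, Subgroup.coe_one]
    · show lv (e g₁) * invR q * (lv (e g₁))⁻¹ * invR q = 1
      rw [(hmidO g₁).eq, mul_inv_cancel_right]
      exact invR_sq
    · show lv (e g₂) * invR q * (lv (e g₂))⁻¹ * (invR q)⁻¹ = 1
      rw [(hmidO g₂).eq, mul_inv_cancel_right, mul_inv_cancel]
    · exact mul_inv_eq_one.2 hX
    · exact mul_inv_eq_one.2 (htrue (orthData q) p hp).eq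
  obtain ⟨ψ, hψ⟩ := P1.univ G (fun i => f' (Sum.inl i)) fun s hs => by
    rw [← lift_map]
    exact hf' _ (List.mem_append.2 (Or.inl (List.mem_map.2 ⟨s, hs, rfl⟩)))
  have hL : ∀ x, FreeGroup.lift f' (L x) = ψ x := fun x => by
    rw [lift_map, show (fun i => f' (Sum.inl i)) = fun i => ψ (f1 i) from (funext hψ).symm, ← lift_comp, hW1]
  set r := f' (Sum.inr ())
  have hR : FreeGroup.lift f' Rw = r := FreeGroup.lift_apply_of
  have h0 : ∀ s ∈ R0, FreeGroup.lift f' s = 1 := fun s hs => hf' s (List.mem_append.2 (Or.inr hs))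
  have h1 := h0 rel₁ (by simp [R0])
  have h2 := h0 rel₂ (by simp [R0])
  have h3 := h0 relX (by simp [R0])
  simp only [rel₁, rel₂, relX, nd, map_mul, map_inv, hL, hR] at h1 h2 h3
  obtain ⟨hmid, hr2⟩ := mid_commute (ψ.comp e) r hgen hC (eq_inv_of_mul_eq_one_left h1)
    (mul_inv_eq_one.1 h2)
  obtain ⟨hlow, htop⟩ := hsuff ψ r hmid hr2 fun p hp => by
    have := h0 (comm (L p.1) (nd p.2)) (by
      simp only [R0, List.mem_cons, List.mem_map]
      exact Or.inr (Or.inr (Or.inr ⟨p, hp, rfl⟩)))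
    simp only [comm, nd, map_mul, map_inv, hL, hR, mul_inv_eq_one] at this
    exact this
  let D : Data F G q :=
    { φ := ψ, r := r, hmid := hmid, r_sq := hr2, farLow := hlow, farTop := htop
      X := mul_inv_eq_one.1 h3 }
  obtain ⟨h, hh, hhr⟩ := D.exists_hom
  refine ⟨h, fun i => ?_⟩
  rcases i with i | i
  · exact (hh (f1 i)).trans (hψ i)
  · exact hhr

theorem omega_plus_hasPresN (n : ℕ) (hn : 4 ≤ n) :
    HasPresN ↥(commutator (oGroup (plusQ (F := F) n))) 8 31 ∧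
      (n ≤ 5 → HasPresN ↥(commutator (oGroup (plusQ (F := F) n))) 8 29) := by
  obtain ⟨q, rfl⟩ : ∃ q, n = q + 4 := ⟨n - 4, by omega⟩
  rcases Nat.eq_zero_or_pos q with rfl | hq
  · obtain ⟨l, hlen, htrue, hsuff⟩ := far_small.{u, 0} (F := F)
    have h := hasPresN_omega SLShort.hasPresN_SL4 l hlen htrue fun φ r _ _ hl => hsuff φ r hl
    exact ⟨h.mono (by norm_num), fun _ => h.mono (by norm_num)⟩
  obtain ⟨l, hlen, htrue, hsuff⟩ := far_large.{u, 0} (F := F) (q := q) hq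
  refine ⟨(hasPresN_omega (SLShort.hasPresN_SL (by omega)) l hlen htrue hsuff).mono (by norm_num),
    fun h5 => ?_⟩
  obtain rfl : q = 1 := by omega
  exact (hasPresN_omega SLShort.hasPresN_SL5 l hlen htrue hsuff).mono (by norm_num)

/-- The centre is cyclic. -/
theorem center_cyclic (n : ℕ) (hn : 4 ≤ n) :
    ∃ z, Subgroup.center ↥(commutator (oGroup (plusQ (F := F) n))) = Subgroup.zpowers z := by
  have hfin : 5 ≤ Module.finrank F (Fin n ⊕ Fin n → F) := by simp; omega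
  have hc := Quad.center_omega_subset (F := F) (Quad.plusQ_nondeg n) hfin
  set C := Subgroup.center ↥(commutator (oGroup (plusQ (F := F) n)))
  by_cases h : ∃ z ∈ C, z ≠ 1
  · obtain ⟨z, hz, hne⟩ := h
    refine ⟨z, le_antisymm (fun g hg => ?_) (zpowers_le.2 hz)⟩
    rcases hc g hg with h1 | h1
    · rw [h1]; exact one_mem _
    · rw [show g = z from Subtype.ext (h1.trans ((hc z hz).resolve_left hne).symm)]
      exact mem_zpowers z
  · push Not at h
    refine ⟨1, le_antisymm (fun g hg => (h g hg).symm ▸ one_mem _) (zpowers_le.2 (one_mem _))⟩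

/-- The statement. -/
theorem omega_plus_eight (n : ℕ) (hn : 4 ≤ n) {k : ℕ}
    (h : HasPresN ↥(commutator (oGroup (plusQ (F := F) n))) 8 k) :
    (∃ rels : Finset (FreeGroup (Fin 8)), rels.card ≤ k ∧ Nonempty (PresentedGroup (↑rels : Set (FreeGroup (Fin 8))) ≃* ↥(Cfsg.Omega F (Cfsg.quadFormPlus n F)))) ∧
    ∃ rels : Finset (FreeGroup (Fin 8)), rels.card ≤ k + 1 ∧ Nonempty (PresentedGroup (↑rels : Set (FreeGroup (Fin 8))) ≃* Cfsg.POmega F (Cfsg.quadFormPlus n F)) := by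
  rw [← Quad.plusQ_coe]
  obtain ⟨z, hz⟩ := center_cyclic (F := F) n hn
  exact ⟨(h.congr (Quad.omegaEquiv (plusQ (F := F) n)).symm).exists_finset,
    ((h.quotient _ z hz).congr (Quad.pOmegaEquiv (plusQ (F := F) n)).symm).exists_finset⟩

end CfsgLib.OmShort
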