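import Cfsg.Agent.OmShort.Core
import Cfsg.Agent.OmShort.Gen
import Cfsg.Agent.SLShort.Glue
import Cfsg.Agent.BPres.Gens

/-!
The relations between `SL n` and the involution.
-/

set_option autoImplicit false
set_option linter.style.haveILetI false

namespace CfsgLib.OmShort

open Matrix Subgroup
open CfsgLib.An
open CfsgLib.BPres (IsPres HasPresN exists_word lift_map lift_comp hasPresN_of)
open CfsgLib.En (SL2 sl2_gen)
open CfsgLib.QP (up low)
open CfsgLib.Quad (plusQ oGroup)

universe u w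

variable {F : Type u} [Field F] [Fintype F] {q : ℕ}

/-- Membership of a centraliser pulled back. -/
theorem mem_comap_cent {H G : Type*} [Group H] [Group G] (f : H →* G) (S : Set G) (x : H) :
    x ∈ (centralizer S).comap f ↔ ∀ s ∈ S, Commute (f x) s := by
  rw [mem_comap, mem_centralizer_iff]
  exact forall₂_congr fun s _ => eq_comm

/-- The two middle relations. -/
theorem mid_commute {m : ℕ} {G : Type w} [Group G] (f : SLn m F →* G) (r : G) {g₁ g₂ : SLn m F}
    (hgen : closure ({g₁, g₂} : Set (SLn m F)) = ⊤)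
    (hC : ∀ C : Subgroup (SLn m F), C.Normal → g₁ * g₁ ∈ C → g₂ ∈ C → C = ⊤)
    (h1 : f g₁ * r * (f g₁)⁻¹ = r⁻¹) (h2 : f g₂ * r * (f g₂)⁻¹ = r) :
    (∀ A, Commute (f A) r) ∧ r * r = 1 := by
  set C : Subgroup (SLn m F) := (centralizer {r}).comap f
  have mem : ∀ x, x ∈ C ↔ Commute (f x) r := fun x => by
    rw [mem_comap_cent]; simp
  have hnorm : ∀ g, (f g * r * (f g)⁻¹ = r⁻¹ ∨ f g * r * (f g)⁻¹ = r) → g ∈ normalizer (C : Set (SLn m F)) := by
    intro g hg
    rw [mem_normalizer_iff]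
    intro x
    rw [mem, mem, map_mul, map_mul, map_inv]
    refine (Commute.conj_iff (f g)).symm.trans ?_
    rcases hg with e | e <;> rw [e]
    exact Commute.inv_right_iff
  have hN : C.Normal := by
    rw [← normalizer_eq_top_iff, eq_top_iff, ← hgen]
    exact pair_le (hnorm g₁ (.inl h1)) (hnorm g₂ (.inr h2))
  have hsq : g₁ * g₁ ∈ C := by
    rw [mem, map_mul, commute_iff_eq, ← mul_inv_eq_iff_eq_mul,
      show f g₁ * f g₁ * r * (f g₁ * f g₁)⁻¹ = f g₁ * (f g₁ * r * (f g₁)⁻¹) * (f g₁)⁻¹ by group, h1,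
      show f g₁ * r⁻¹ * (f g₁)⁻¹ = (f g₁ * r * (f g₁)⁻¹)⁻¹ by group, h1, inv_inv]
  have hg2 : g₂ ∈ C := by rw [mem, commute_iff_eq, ← mul_inv_eq_iff_eq_mul, h2]
  have htop := hC C hN hsq hg2
  have hall : ∀ A, Commute (f A) r := fun A => (mem A).1 (htop ▸ mem_top A)
  refine ⟨hall, ?_⟩
  rw [(hall g₁).eq, mul_inv_cancel_right] at h1
  exact eq_inv_iff_mul_eq_one.1 h1

/-- The low pairs and the top commute with the node. -/
def FarOK {G : Type w} [Group G] (φ : SLn (q + 4) F →* G) (r : G) : Prop :=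
  (∀ a c : Fin (q + 4), a ≠ c → a.val < q + 2 → c.val < q + 2 → ∀ t A,
    Commute (φ (xt a c t)) (nodeB φ r A)) ∧
  ∀ A B, Commute (φ (topT F q A)) (nodeB φ r B)

theorem commute_xt_top {a c : Fin (q + 4)} (hac : a ≠ c) (ha : a.val < q + 2) (hc : c.val < q + 2)
    (t : F) (A : SL2 F) : Commute (xt a c t : SLn (q + 4) F) (topT F q A) := by
  have hle : (⊤ : Subgroup (SL2 F)) ≤ (centralizer {(xt a c t : SLn (q + 4) F)}).comap (topT F q) := by
    rw [← sl2_gen, closure_le]
    rintro _ (⟨s, rfl⟩ | ⟨s, rfl⟩) <;> rw [SetLike.mem_coe, mem_comap_cent] <;> simp only [Set.mem_singleton_iff, forall_eq]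
    · rw [emb2_up]
      exact (commute_xt hac fm_ne_fl (ne_of_low ha).2 (ne_of_low hc).1 t s).symm
    · rw [emb2_low]
      exact (commute_xt hac fm_ne_fl.symm (ne_of_low ha).1 (ne_of_low hc).2 t s).symm
  exact ((mem_comap_cent _ _ _).1 (hle (mem_top A)) _ rfl).symm

/-- At most three pairs above rank four. -/
theorem far_large (hq : 1 ≤ q) : ∃ l : List (SLn (q + 4) F × SL2 F), l.length ≤ 3 ∧
    (∀ {G : Type (max u w)} [Group G] (D : Data F G q), ∀ p ∈ l, Commute (D.φ p.1) (nodeB D.φ D.r p.2)) ∧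
    ∀ {G : Type w} [Group G] (φ : SLn (q + 4) F →* G) (r : G),
      (∀ A, Commute (φ (emb (midF q) midF_injective A)) r) → r * r = 1 →
      (∀ p ∈ l, Commute (φ p.1) (nodeB φ r p.2)) → FarOK φ r := by
  obtain ⟨y, hy⟩ := SLShort.exists_flip_gen (F := F)
  set z := SLShort.flip2 y
  let a0 : Fin (q + 4) := f0 q
  let a1 : Fin (q + 4) := ⟨1, by omega⟩
  let a2 : Fin (q + 4) := ⟨2, by omega⟩
  have h01 : a0 ≠ a1 := by simp [a0, a1, f0, Fin.ext_iff]
  have l0 : a0.val < q + 2 := f0_low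
  have l1 : a1.val < q + 2 := by simp [a1]
  have l2 : a2.val < q + 2 := by simp [a2]; omega
  let x : SLn (q + 4) F := wEl a0 a1 * topT F q y
  refine ⟨[(x, y), (x, z), (topT F q z, z)], le_rfl, fun {G} _ D p hp => ?_, fun {G} _ φ r hmid hr2 hl => ?_⟩
  · have hx : ∀ A, Commute (D.φ x) (nodeB D.φ D.r A) := by
      intro A
      rw [map_mul, wEl, map_mul, map_mul]
      exact (((D.farLow _ _ h01 l0 l1 _ A).mul_left (D.farLow _ _ h01.symm l1 l0 _ A)).mul_left
        (D.farLow _ _ h01 l0 l1 _ A)).mul_left (D.farTop _ A)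
    simp only [List.mem_cons, List.not_mem_nil, or_false] at hp
    rcases hp with rfl | rfl | rfl
    exacts [hx _, hx _, D.farTop _ _]
  · set B := nodeB φ r with hB
    set N : Subgroup (SLn (q + 4) F) := (centralizer (B.range : Set G)).comap φ
    have mem : ∀ A, A ∈ N ↔ ∀ Y, Commute (φ A) (B Y) := fun A => by
      rw [mem_comap_cent]
      exact ⟨fun h Y => h _ ⟨Y, rfl⟩, fun h s ⟨Y, e⟩ => e ▸ h Y⟩
    have gen2 : ∀ g : G, Commute g (B y) → Commute g (B z) → ∀ Y, Commute g (B Y) := by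
      intro g hgy hgz Y
      have : Y ∈ (centralizer {g}).comap B := by
        refine (hy ▸ mem_top Y : Y ∈ closure ({y, z} : Set (SL2 F))) |> pair_le ?_ ?_ <;>
          rw [mem_comap_cent] <;> simp only [Set.mem_singleton_iff, forall_eq]
        exacts [hgy.symm, hgz.symm]
      exact ((mem_comap_cent _ _ _).1 this _ rfl).symm
    have hxN : x ∈ N := (mem x).2 (gen2 _ (hl (x, y) (by simp)) (hl (x, z) (by simp)))
    have hlow1 : ∀ a c : Fin (q + 4), a ≠ c → a ≠ a0 → c ≠ a0 → a.val < q + 2 → c.val < q + 2 →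
        ∀ t, xt a c t ∈ N := by
      intro a c hac ha0 hc0 ha hc t
      obtain ⟨i, rfl⟩ := exists_midF ha0 (ne_of_low ha).2
      obtain ⟨j, rfl⟩ := exists_midF hc0 (ne_of_low hc).2
      have h1 := hmid (xt i j t)
      rw [emb_xt _ _ fun e => hac (congrArg (midF q) e)] at h1
      refine (mem _).2 fun Y => ?_
      have h2 := (commute_xt_top hac ha hc t Y).map φ
      rw [hB, nodeB_apply]
      exact (h1.mul_right h2).mul_right h1.inv_right
    obtain ⟨w1, w2, w3⟩ := maps_wEl (F := F) h01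
    have hTy : ∀ a c : Fin (q + 4), a ≠ c → a.val < q + 2 → c.val < q + 2 → ∀ t,
        x * xt a c t * x⁻¹ = wEl a0 a1 * xt a c t * (wEl a0 a1)⁻¹ := by
      intro a c hac ha hc t
      simp only [x]
      rw [_root_.mul_inv_rev, mul_assoc (wEl a0 a1) (topT F q y), ← (commute_xt_top hac ha hc t y).eq]
      group
    have hconj : ∀ A ∈ N, x * A * x⁻¹ ∈ N := fun A hA => mul_mem (mul_mem hxN hA) (inv_mem hxN)
    have hedge : ∀ j : Fin (q + 4), j ≠ a0 → j ≠ a1 → j.val < q + 2 → ∀ t,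
        xt a0 j t ∈ N ∧ xt j a0 t ∈ N := by
      intro j hj0 hj1 hj t
      constructor
      · have := hconj _ (hlow1 a1 j hj1.symm h01.symm hj0 l1 hj t)
        rwa [hTy _ _ hj1.symm l1 hj, w1.conj_xt (w3 j hj0 hj1) hj1.symm, one_mul, div_one] at this
      · have := hconj _ (hlow1 j a1 hj1 hj0 h01.symm hj l1 t)
        rwa [hTy _ _ hj1 hj l1, (w3 j hj0 hj1).conj_xt w1 hj1, one_mul, div_one] at this
    have h20 : a2 ≠ a0 := by simp [a0, a2, f0, Fin.ext_iff]
    have h21 : a2 ≠ a1 := by simp [a1, a2, Fin.ext_iff]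
    have hcom : ∀ i j k : Fin (q + 4), i ≠ j → i ≠ k → k ≠ j → (∀ t, xt i k t ∈ N) → (∀ t, xt k j t ∈ N) →
        ∀ t, xt i j t ∈ N := by
      intro i j k hij hik hkj h1 h2 t
      rw [xt_eq hij, Linear.transvection_commutator_three hij hik hkj t, ← xt_eq hik, ← xt_eq hkj,
        commutatorElement_def]
      exact mul_mem (mul_mem (mul_mem (h1 t) (h2 1)) (inv_mem (h1 t))) (inv_mem (h2 1))
    have hlow : ∀ a c : Fin (q + 4), a ≠ c → a.val < q + 2 → c.val < q + 2 → ∀ t, xt a c t ∈ N := by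
      intro a c hac ha hc t
      rcases eq_or_ne a a0 with rfl | ha0
      · rcases eq_or_ne c a1 with rfl | hc1
        · exact hcom _ _ a2 hac h20.symm h21 (fun t => (hedge a2 h20 h21 l2 t).1)
            (fun t => hlow1 a2 a1 h21 h20 h01.symm l2 l1 t) t
        · exact (hedge c hac.symm hc1 hc t).1
      rcases eq_or_ne c a0 with rfl | hc0
      · rcases eq_or_ne a a1 with rfl | ha1
        · exact hcom _ _ a2 hac h21.symm h20 (fun t => hlow1 a1 a2 h21.symm h01.symm h20 l1 l2 t)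
            (fun t => (hedge a2 h20 h21 l2 t).2) t
        · exact (hedge a hac ha1 ha t).2
      exact hlow1 a c hac ha0 hc0 ha hc t
    refine ⟨fun a c hac ha hc t A => (mem _).1 (hlow a c hac ha hc t) A, ?_⟩
    have hTyN : topT F q y ∈ N := by
      have hw : wEl a0 a1 ∈ N := mul_mem (mul_mem (hlow _ _ h01 l0 l1 _) (hlow _ _ h01.symm l1 l0 _))
        (hlow _ _ h01 l0 l1 _)
      have := mul_mem (inv_mem hw) hxN
      rwa [inv_mul_cancel_left] at this
    have hy' := (mem _).1 hTyN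
    have hrinv : r⁻¹ = r := inv_eq_of_mul_eq_one_right hr2
    have hswap : ∀ U V, Commute (φ (topT F q U)) (B V) → Commute (φ (topT F q V)) (B U) := by
      intro U V h
      have h' := h.map (MulAut.conj r).toMonoidHom
      simp only [hB, nodeB_apply, MulEquiv.coe_toMonoidHom, MulAut.conj_apply] at h' ⊢
      rw [show r * (r * φ (topT F q V) * r⁻¹) * r⁻¹ = (r * r) * φ (topT F q V) * (r * r)⁻¹ by group,
        hr2, inv_one, one_mul, mul_one] at h'
      exact h'.symm
    intro A Y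
    refine (mem _).1 ?_ Y
    have hA : A ∈ closure ({y, z} : Set (SL2 F)) := hy ▸ mem_top A
    refine (pair_le ?_ ?_ : closure ({y, z} : Set (SL2 F)) ≤ N.comap (topT F q)) hA
    · exact hTyN
    · exact (mem _).2 (gen2 _ (hswap y z (hy' z)) (hl (topT F q z, z) (by simp)))

theorem zero_index {a : Fin (0 + 4)} (ha : a.val < 0 + 2) : a = f0 0 ∨ a = fp 0 := by
  simp only [f0, fp, Fin.ext_iff]
  omega

/-- Four pairs in rank four. -/
theorem far_small : ∃ l : List (SLn (0 + 4) F × SL2 F), l.length ≤ 4 ∧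
    (∀ {G : Type (max u w)} [Group G] (D : Data F G 0), ∀ p ∈ l, Commute (D.φ p.1) (nodeB D.φ D.r p.2)) ∧
    ∀ {G : Type w} [Group G] (φ : SLn (0 + 4) F →* G) (r : G),
      (∀ p ∈ l, Commute (φ p.1) (nodeB φ r p.2)) → FarOK φ r := by
  obtain ⟨y, hy⟩ := SLShort.exists_flip_gen (F := F)
  set z := SLShort.flip2 y
  obtain ⟨x₁, x₂, hx⟩ := prod_two_gen (F := F)
  let E : SL2 F →* SLn (0 + 4) F := emb2 (f0_ne_fp (q := 0))
  have hET : ∀ a c, Commute (E a) (topT F 0 c) := by
    intro a c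
    have hle : (⊤ : Subgroup (SL2 F)) ≤ (centralizer {topT F 0 c}).comap E := by
      rw [← sl2_gen, closure_le]
      rintro _ (⟨s, rfl⟩ | ⟨s, rfl⟩) <;> rw [SetLike.mem_coe, mem_comap_cent] <;>
        simp only [Set.mem_singleton_iff, forall_eq, E]
      · rw [emb2_up]; exact commute_xt_top f0_ne_fp f0_low fp_low s c
      · rw [emb2_low]; exact commute_xt_top f0_ne_fp.symm fp_low f0_low s c
    exact (mem_comap_cent _ _ _).1 (hle (mem_top a)) _ rfl
  let μ : SL2 F × SL2 F →* SLn (0 + 4) F := MonoidHom.noncommCoprod E (topT F 0) hET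
  refine ⟨[(μ x₁, y), (μ x₁, z), (μ x₂, y), (μ x₂, z)], le_rfl, fun {G} _ D p hp => ?_, fun {G} _ φ r hl => ?_⟩
  · have hE : ∀ a A, Commute (D.φ (E a)) (nodeB D.φ D.r A) := by
      intro a A
      have hle : (⊤ : Subgroup (SL2 F)) ≤ (centralizer {nodeB D.φ D.r A}).comap (D.φ.comp E) := by
        rw [← sl2_gen, closure_le]
        rintro _ (⟨s, rfl⟩ | ⟨s, rfl⟩) <;> rw [SetLike.mem_coe, mem_comap_cent] <;>
          simp only [Set.mem_singleton_iff, forall_eq, E, MonoidHom.comp_apply]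
        · rw [emb2_up]; exact D.farLow _ _ f0_ne_fp f0_low fp_low s A
        · rw [emb2_low]; exact D.farLow _ _ f0_ne_fp.symm fp_low f0_low s A
      exact (mem_comap_cent _ _ _).1 (hle (mem_top a)) _ rfl
    have hμ : ∀ w A, Commute (D.φ (μ w)) (nodeB D.φ D.r A) := fun w A => by
      show Commute (D.φ (E w.1 * topT F 0 w.2)) _
      rw [map_mul]
      exact (hE _ A).mul_left (D.farTop _ A)
    simp only [List.mem_cons, List.not_mem_nil, or_false] at hp
    rcases hp with rfl | rfl | rfl | rfl <;> exact hμ _ _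
  · set B := nodeB φ r
    have gen2 : ∀ g : G, Commute g (B y) → Commute g (B z) → ∀ Y, Commute g (B Y) := by
      intro g hgy hgz Y
      have : Y ∈ (centralizer {g}).comap B := by
        refine (hy ▸ mem_top Y : Y ∈ closure ({y, z} : Set (SL2 F))) |> pair_le ?_ ?_ <;>
          rw [mem_comap_cent] <;> simp only [Set.mem_singleton_iff, forall_eq]
        exacts [hgy.symm, hgz.symm]
      exact ((mem_comap_cent _ _ _).1 this _ rfl).symm
    have hall : ∀ w Y, Commute (φ (μ w)) (B Y) := by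
      intro w Y
      have : w ∈ (centralizer {B Y}).comap (φ.comp μ) := by
        refine (hx ▸ mem_top w : w ∈ closure ({x₁, x₂} : Set (SL2 F × SL2 F))) |> pair_le ?_ ?_ <;>
          rw [mem_comap_cent] <;> simp only [Set.mem_singleton_iff, forall_eq, MonoidHom.comp_apply]
        exacts [gen2 _ (hl (μ x₁, y) (by simp)) (hl (μ x₁, z) (by simp)) Y,
          gen2 _ (hl (μ x₂, y) (by simp)) (hl (μ x₂, z) (by simp)) Y]
      exact (mem_comap_cent _ _ _).1 this _ rfl
    refine ⟨fun a c hac ha hc t A => ?_, fun A Y => ?_⟩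
    · rcases zero_index ha with rfl | rfl <;> rcases zero_index hc with rfl | rfl <;>
        try exact absurd rfl hac
      · have := hall (up t, 1) A
        rwa [MonoidHom.noncommCoprod_apply, map_one, mul_one, show E (up t) = _ from emb2_up _ t] at this
      · have := hall (low t, 1) A
        rwa [MonoidHom.noncommCoprod_apply, map_one, mul_one, show E (low t) = _ from emb2_low _ t] at this
    · have := hall (1, A) Y
      rwa [MonoidHom.noncommCoprod_apply, map_one, one_mul] at this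

end CfsgLib.OmShort
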